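import Groth.Agent.ShriekPn7.Pn
import Groth.Agent.PerfGen7.BrownDQCoh
import Groth.Prelude.Def_DDual2

/-!
# `π^! O = O(-n-1)[n]`
-/

set_option linter.style.haveILetI false
set_option backward.isDefEq.respectTransparency false
set_option backward.isDefEq.respectTransparency.types false
set_option maxHeartbeats 1000000

universe u

open CategoryTheory CategoryTheory.Limits AlgebraicGeometry Pretriangulated

attribute [local instance] HasDerivedCategory.standard

noncomputable section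

namespace Groth.Agent.ShriekPn7

open Groth.Agent.KFlatLib Groth.Agent.PerfGen7 Groth.Agent.ProjGen7

/-- A quasi-coherent module in degree zero. -/
theorem isQCohD_inD {X : Scheme.{u}} {M : X.Modules} (hM : Coh.IsQCoh M) : DCoh.IsQCohD (DCoh.inD X M) :=
  isQCohD_of_iso ((DerivedCategory.singleFunctorIsoCompQ _ 0).app M).symm
    ((isQCohD_Q_iff _).2 (isQCoh_homology_of_terms _ fun i => by
      by_cases hi : i = 0
      · subst hi
        exact isQCoh_of_iso (HomologicalComplex.singleObjXSelf (ComplexShape.up ℤ) 0 _).symm hM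
      · exact isQCoh_of_isZero (HomologicalComplex.isZero_single_obj_X (ComplexShape.up ℤ) 0 _ i hi)))

variable (n : ℕ) (A : Type u) [CommRing A] [DCoh.HasRpush (CohB1.ProjSpace.toSpec n A)]

/-- The right adjoint of `Rπ_*` sends `O` to `O(-n-1)[n]`. -/
theorem nonempty_rightAdjoint_Pn (hp : DCoh.RpushPreservesQCoh (CohB1.ProjSpace.toSpec n A))
    {a : DCoh.DQCoh (Spec (CommRingCat.of A)) ⥤ DCoh.DQCoh (CohB1.ProjSpace n A)}
    (adj : DCoh.RpushQ (CohB1.ProjSpace.toSpec n A) hp ⊣ a) (O : DCoh.DQCoh (Spec (CommRingCat.of A)))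
    (hO : Nonempty (O.obj ≅ DCoh.inD (Spec (CommRingCat.of A))
      (Coh.structureModule (Spec (CommRingCat.of A))))) :
    Nonempty ((a.obj O).obj ≅
      (DCoh.inD (CohB1.ProjSpace n A) (Twist.twistProjSpace n A (-((n : ℤ) + 1))))⟦(n : ℤ)⟧) := by
  let π := CohB1.ProjSpace.toSpec n A
  let P := CohB1.ProjSpace n A
  obtain ⟨eO⟩ := hO
  obtain ⟨t⟩ := nonempty_rpush_top n A
  let W₀ := (DCoh.inD P (Twist.twistProjSpace n A (-((n : ℤ) + 1))))⟦(n : ℤ)⟧
  have hW : DCoh.IsQCohD W₀ := KFlatLib.isQCohD_shift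
    (isQCohD_inD (PnCoh.isQCoh_twist_mvPolynomial (Fin (n + 1)) A _)) _
  let W : DCoh.DQCoh P := ⟨W₀, hW⟩
  let tr : (DCoh.RpushQ π hp).obj W ⟶ O := ObjectProperty.homMk (t.hom ≫ eO.inv)
  haveI : IsIso tr.hom := inferInstanceAs (IsIso (t.hom ≫ eO.inv))
  let τ := adj.homEquiv W O tr
  have key : ∀ (L : DCoh.DQCoh P) (g : L.obj ⟶ W₀),
      g ≫ τ.hom = (adj.homEquiv L O (ObjectProperty.homMk ((DCoh.Rpush π).map g ≫ tr.hom))).hom := fun L g => by
    let g' : L ⟶ W := ObjectProperty.homMk g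
    have h := adj.homEquiv_naturality_left g' tr
    exact (congrArg (fun x => x.hom) h).symm
  have hb : ∀ (d : ℕ), d ≤ n → ∀ m : ℤ, Function.Bijective
      fun g : (DCoh.inD P (Twist.twistProjSpace n A (-(d : ℤ))))⟦m⟧ ⟶ W₀ => g ≫ τ.hom := by
    intro d hd m
    have hq : DCoh.IsQCohD ((DCoh.inD P (Twist.twistProjSpace n A (-(d : ℤ))))⟦m⟧) :=
      KFlatLib.isQCohD_shift (isQCohD_inD (PnCoh.isQCoh_twist_mvPolynomial (Fin (n + 1)) A _)) _
    let L : DCoh.DQCoh P := ⟨_, hq⟩
    have hR : Function.Bijective fun g : L.obj ⟶ W₀ => (DCoh.Rpush π).map g := by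
      rcases Nat.eq_zero_or_pos d with rfl | hd1
      · obtain ⟨i₀⟩ := nonempty_twist_zero_iso n A
        let e : (DCoh.inD P (Coh.structureModule P))⟦m⟧ ≅ L.obj :=
          (shiftFunctor _ m).mapIso ((DerivedCategory.singleFunctor _ 0).mapIso i₀)
        refine ⟨fun g g' hg => (cancel_epi e.hom).1 ((bijective_rpush_map_shift n A m W₀).1 ?_), fun y => ?_⟩
        · show (DCoh.Rpush π).map (e.hom ≫ g) = (DCoh.Rpush π).map (e.hom ≫ g')
          rw [Functor.map_comp, Functor.map_comp]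
          exact congrArg (_ ≫ ·) hg
        · obtain ⟨g, hg⟩ := (bijective_rpush_map_shift n A m W₀).2 ((DCoh.Rpush π).map e.hom ≫ y)
          simp only at hg
          refine ⟨e.inv ≫ g, ?_⟩
          show (DCoh.Rpush π).map (e.inv ≫ g) = y
          rw [Functor.map_comp, hg, ← Functor.map_comp_assoc, e.inv_hom_id,
            CategoryTheory.Functor.map_id, Category.id_comp]
      · refine ⟨fun g g' _ => (eq_zero_twist n A d hd1 hd m g).trans (eq_zero_twist n A d hd1 hd m g').symm,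
          fun y => ⟨0, IsZero.eq_of_src ?_ _ _⟩⟩
        exact ((shiftFunctor _ m).map_isZero (isZero_rpush_twist n A (-(d : ℤ)) (by omega) (by omega))).of_iso
          (((DCoh.Rpush π).commShiftIso m).app _)
    refine ⟨fun g g' hg => hR.1 ?_, fun y => ?_⟩
    · simp only [key L] at hg
      have := (adj.homEquiv L O).injective (ObjectProperty.hom_ext _ hg)
      exact (cancel_mono tr.hom).1 (congrArg (fun x => x.hom) this)
    · let y' : L ⟶ a.obj O := ObjectProperty.homMk y
      obtain ⟨g, hg⟩ := hR.2 (((adj.homEquiv L O).symm y').hom ≫ inv tr.hom)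
      simp only at hg
      refine ⟨g, (key L g).trans ?_⟩
      rw [hg, Category.assoc, IsIso.inv_hom_id, Category.comp_id]
      exact congrArg (fun x => x.hom) ((adj.homEquiv L O).apply_symm_apply y')
  obtain ⟨C, p, dd, hT⟩ := distinguished_cocone_triangle τ.hom
  have hCq : DCoh.IsQCohD C := KFlatLib.isQCohD_obj₃ hT hW (a.obj O).property
  have hC : IsZero C := isZero_of_window n A hCq fun d hd m φ => by
    let L := DCoh.inD P (Twist.twistProjSpace n A (-(d : ℤ)))
    obtain ⟨ψ, hψ⟩ := (shiftFunctor (DCoh.D P) (1 : ℤ)).map_surjective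
      (((shiftFunctorAdd' (DCoh.D P) (m - 1) 1 m (by omega)).app L).inv ≫ φ ≫ dd)
    have h0 : ψ ≫ τ.hom = 0 := (shiftFunctor (DCoh.D P) (1 : ℤ)).map_injective (by
      rw [Functor.map_comp, hψ, Functor.map_zero, Category.assoc, Category.assoc,
        show dd ≫ τ.hom⟦(1 : ℤ)⟧' = 0 from comp_distTriang_mor_zero₃₁ _ hT, comp_zero, comp_zero])
    have h1 : ψ = 0 := (hb d hd (m - 1)).1 (h0.trans zero_comp.symm)
    rw [h1, Functor.map_zero] at hψ
    have h2 : φ ≫ dd = 0 :=
      (cancel_epi ((shiftFunctorAdd' (DCoh.D P) (m - 1) 1 m (by omega)).app L).inv).1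
        (hψ.symm.trans comp_zero.symm)
    obtain ⟨h, hh⟩ := Triangle.coyoneda_exact₃ _ hT φ h2
    obtain ⟨g, hg⟩ := (hb d hd m).2 h
    rw [hh, ← show g ≫ τ.hom = h from hg]
    show (g ≫ τ.hom) ≫ p = 0
    rw [Category.assoc, show τ.hom ≫ p = 0 from comp_distTriang_mor_zero₁₂ _ hT, comp_zero]
  haveI : IsIso τ.hom := (Triangle.isZero₃_iff_isIso₁ _ hT).1 hC
  exact ⟨(asIso τ.hom).symm⟩

end Groth.Agent.ShriekPn7
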