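import Groth.Agent.ProjGen7.Windows

/-!
# A triangulated functor killing the inner window of iterated cones
-/

set_option linter.style.haveILetI false
set_option backward.isDefEq.respectTransparency false
set_option backward.isDefEq.respectTransparency.types false

universe u

open CategoryTheory CategoryTheory.Limits AlgebraicGeometry Pretriangulated

attribute [local instance] HasDerivedCategory.standard

namespace Groth.Agent.ShriekPn7

open Groth.Agent.KFlatLib Groth.Agent.ProjGen7

variable {X S : Scheme.{u}} {κ : Type} (G : DCoh.D X ⥤ DCoh.D S) [G.CommShift ℤ] [G.IsTriangulated]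

theorem isZero_cones_range (F : KD X κ) : ∀ (l : List κ) (a : ℤ),
    (∀ b, a ≤ b → b ≤ a + (l.length : ℤ) → IsZero (G.obj (DerivedCategory.Q.obj (F.obj b)))) →
      IsZero (G.obj (DerivedCategory.Q.obj ((F.cones l).obj a)))
  | [], a, h => h a le_rfl (by simp)
  | t :: l, a, h => Triangle.isZero₃_of_isZero₁₂ _
      (G.map_distinguished _ ((F.cones l).tri_distinguished t a))
      (isZero_cones_range F l a fun b hb hb' => h b hb (by simp; omega))
      (isZero_cones_range F l (a + 1) fun b hb hb' => h b (by omega) (by simp; omega))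

/-- If everything above the bottom is killed, a cone is a shift of the bottom. -/
theorem cones_bottom (F : KD X κ) : ∀ (l : List κ) (a : ℤ),
    (∀ b, a + 1 ≤ b → b ≤ a + (l.length : ℤ) → IsZero (G.obj (DerivedCategory.Q.obj (F.obj b)))) →
      Nonempty (G.obj (DerivedCategory.Q.obj ((F.cones l).obj a)) ≅
        (G.obj (DerivedCategory.Q.obj (F.obj a)))⟦(l.length : ℤ)⟧)
  | [], a, _ => ⟨((shiftFunctorZero (DCoh.D S) ℤ).app _).symm⟩
  | t :: l, a, h => by
    obtain ⟨e⟩ := cones_bottom F l a fun b hb hb' => h b hb (by simp; omega)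
    have hT := G.map_distinguished _ ((F.cones l).tri_distinguished t a)
    have hz : IsZero (G.obj (DerivedCategory.Q.obj ((F.cones l).obj (a + 1)))) :=
      isZero_cones_range G F l (a + 1) fun b hb hb' => h b hb (by simp; omega)
    haveI : IsIso (G.mapTriangle.obj ((F.cones l).tri t a)).mor₃ :=
      (Triangle.isZero₁_iff_isIso₂ _ (rot_of_distTriang _ hT)).1 hz
    exact ⟨asIso (G.mapTriangle.obj ((F.cones l).tri t a)).mor₃ ≪≫
      (shiftFunctor (DCoh.D S) (1 : ℤ)).mapIso e ≪≫
      ((shiftFunctorAdd' (DCoh.D S) (l.length : ℤ) 1 ((t :: l).length : ℤ) (by simp)).app _).symm⟩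

/-- If everything below the top is killed, a cone is the top. -/
theorem cones_top (F : KD X κ) : ∀ (l : List κ) (a : ℤ),
    (∀ b, a ≤ b → b < a + (l.length : ℤ) → IsZero (G.obj (DerivedCategory.Q.obj (F.obj b)))) →
      Nonempty (G.obj (DerivedCategory.Q.obj ((F.cones l).obj a)) ≅
        G.obj (DerivedCategory.Q.obj (F.obj (a + (l.length : ℤ)))))
  | [], a, _ => ⟨eqToIso (by simp [KD.cones])⟩
  | t :: l, a, h => by
    obtain ⟨e⟩ := cones_top F l (a + 1) fun b hb hb' => h b (by omega) (by simp; omega)
    have hT := G.map_distinguished _ ((F.cones l).tri_distinguished t a)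
    have hz : IsZero (G.obj (DerivedCategory.Q.obj ((F.cones l).obj a))) :=
      isZero_cones_range G F l a fun b hb hb' => h b hb (by simp; omega)
    haveI : IsIso (G.mapTriangle.obj ((F.cones l).tri t a)).mor₂ :=
      (Triangle.isZero₁_iff_isIso₂ _ hT).1 hz
    exact ⟨(asIso (G.mapTriangle.obj ((F.cones l).tri t a)).mor₂).symm ≪≫ e ≪≫
      eqToIso (by simp [add_comm, add_left_comm, add_assoc])⟩

/-- The total cone over all operators vanishing, the outer ends of a window agree after applying `G`. -/
theorem nonempty_window_iso (F : KD X κ) (t : κ) (l : List κ) (a : ℤ)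
    (hcone : IsZero (DerivedCategory.Q.obj ((F.cones (t :: l)).obj a)))
    (h : ∀ b, a + 1 ≤ b → b ≤ a + (l.length : ℤ) → IsZero (G.obj (DerivedCategory.Q.obj (F.obj b)))) :
    Nonempty ((G.obj (DerivedCategory.Q.obj (F.obj a)))⟦(l.length : ℤ)⟧ ≅
      G.obj (DerivedCategory.Q.obj (F.obj (a + 1 + (l.length : ℤ))))) := by
  obtain ⟨eb⟩ := cones_bottom G F l a h
  obtain ⟨et⟩ := cones_top G F l (a + 1) fun b hb hb' => h b hb (by omega)
  have hT := G.map_distinguished _ ((F.cones l).tri_distinguished t a)
  haveI : IsIso (G.mapTriangle.obj ((F.cones l).tri t a)).mor₁ :=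
    (Triangle.isZero₃_iff_isIso₁ _ hT).1 (G.map_isZero hcone)
  exact ⟨eb.symm ≪≫ asIso (G.mapTriangle.obj ((F.cones l).tri t a)).mor₁ ≪≫ et⟩

end Groth.Agent.ShriekPn7
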