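import Groth.Agent.AmpleVan.Tw
import Groth.Agent.RHomO7.Finite

/-!
# Tensoring with an invertible module on the derived category
-/

set_option linter.style.haveILetI false
set_option backward.isDefEq.respectTransparency false
set_option backward.isDefEq.respectTransparency.types false

universe u

open CategoryTheory CategoryTheory.Limits AlgebraicGeometry Pretriangulated

attribute [local instance] HasDerivedCategory.standard

namespace Groth.Agent.ShriekPn7

open Groth.Agent.AmpleVan

variable {X : Scheme.{u}}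

/-- Maps between shifted sheaves are detected after twisting. -/
theorem eq_zero_of_twist {P : X.Modules} (hP : PicF.IsInvertible P) (L M : X.Modules) (m n : ℤ)
    (h : ∀ ψ : (DCoh.inD X ((tw P).obj L))⟦m⟧ ⟶ (DCoh.inD X ((tw P).obj M))⟦n⟧, ψ = 0)
    (φ : (DCoh.inD X L)⟦m⟧ ⟶ (DCoh.inD X M)⟦n⟧) : φ = 0 := by
  haveI := isEquivalence_tw hP
  let T := tw P
  haveI : T.Additive := inferInstance
  haveI : T.asEquivalence.functor.Additive := ‹T.Additive›
  let T' := T.inv
  haveI : T'.Additive := inferInstanceAs T.asEquivalence.inverse.Additive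
  haveI : PreservesFiniteLimits T := inferInstance
  haveI : PreservesFiniteColimits T := inferInstance
  haveI : PreservesFiniteLimits T' := inferInstance
  haveI : PreservesFiniteColimits T' := inferInstance
  obtain ⟨e⟩ : Nonempty (T.mapDerivedCategory ⋙ T'.mapDerivedCategory ≅ 𝟭 (DCoh.D X)) :=
    RHomO7.nonempty_iso_of_Q ((Functor.associator _ _ _).symm ≪≫
      Functor.isoWhiskerRight T.mapDerivedCategoryFactors T'.mapDerivedCategory ≪≫
      Functor.associator _ _ _ ≪≫ Functor.isoWhiskerLeft _ T'.mapDerivedCategoryFactors ≪≫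
      (Functor.associator _ _ _).symm ≪≫ Functor.isoWhiskerRight
        ((Functor.mapHomologicalComplexCompIso (Iso.refl _) (ComplexShape.up ℤ)) ≪≫
          NatIso.mapHomologicalComplex (show T ⋙ T' ≅ 𝟭 _ from T.asEquivalence.unitIso.symm) (ComplexShape.up ℤ) ≪≫
          Functor.mapHomologicalComplexIdIso X.Modules (ComplexShape.up ℤ)) DerivedCategory.Q ≪≫
      Functor.leftUnitor _ ≪≫ (Functor.rightUnitor _).symm)
  let s : ∀ (N : X.Modules) (k : ℤ), T.mapDerivedCategory.obj ((DCoh.inD X N)⟦k⟧) ≅ (DCoh.inD X (T.obj N))⟦k⟧ :=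
    fun N k => (T.mapDerivedCategory.commShiftIso k).app _ ≪≫ (shiftFunctor (DCoh.D X) k).mapIso
      (T.mapDerivedCategory.mapIso ((DerivedCategory.singleFunctorIsoCompQ X.Modules 0).app N) ≪≫
        T.mapDerivedCategoryFactors.app _ ≪≫ DerivedCategory.Q.mapIso
          ((HomologicalComplex.singleMapHomologicalComplex T (ComplexShape.up ℤ) 0).app N) ≪≫
        ((DerivedCategory.singleFunctorIsoCompQ X.Modules 0).app (T.obj N)).symm)
  have h0 : T.mapDerivedCategory.map φ = 0 := by
    rw [← cancel_epi (s L m).inv, ← cancel_mono (s M n).hom, comp_zero, zero_comp]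
    exact h _
  rw [show φ = e.inv.app _ ≫ (T.mapDerivedCategory ⋙ T'.mapDerivedCategory).map φ ≫ e.hom.app _ from
    (NatIso.naturality_1 e φ).symm]
  show e.inv.app _ ≫ T'.mapDerivedCategory.map (T.mapDerivedCategory.map φ) ≫ e.hom.app _ = 0
  rw [h0, Functor.map_zero, zero_comp, comp_zero]

end Groth.Agent.ShriekPn7
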