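import Groth.Agent.ShriekTensor7.Triangulated
import Groth.Agent.ShriekTensor7.UnitShift

/-!
# Maps out of `Lπ^* O[n]` for a morphism with `Rπ_* O ≅ O`
-/

set_option linter.style.haveILetI false
set_option backward.isDefEq.respectTransparency false
set_option backward.isDefEq.respectTransparency.types false

universe u

open CategoryTheory CategoryTheory.Limits AlgebraicGeometry

attribute [local instance] HasDerivedCategory.standard

namespace Groth.Agent.ShriekPn7

open Groth.Agent.KFlatLib Groth.Agent.PerfGen7 Groth.Agent.ShriekTensor7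

variable {X : Scheme.{u}}

/-- `Lπ^* O[-k] ≅ O[-k]`. -/
theorem nonempty_lpull_unitS {Y : Scheme.{u}} (f : X ⟶ Y) [DCoh.HasLpull f] (k : ℤ) :
    Nonempty ((DCoh.Lpull f).obj (DerivedCategory.Q.obj (unitS Y k)) ≅
      DerivedCategory.Q.obj (unitS X k)) := by
  have hP : DCoh.IsKFlat (unitS Y k) :=
    isKFlat_of_isStrictlyLE _ k (isFlat_single k isFlat_structureModule)
  haveI := isIso_lpullComparison f hP
  haveI : IsIso (SheafOfModules.pullbackObjUnitToUnit f.toRingCatSheafHom) := inferInstance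
  let e : (Scheme.Modules.pullback f).obj (Coh.structureModule Y) ≅ Coh.structureModule X :=
    asIso (SheafOfModules.pullbackObjUnitToUnit f.toRingCatSheafHom)
  exact ⟨asIso ((lpullComparison f).app (unitS Y k)) ≪≫ DerivedCategory.Q.mapIso
    ((HomologicalComplex.singleMapHomologicalComplex (Scheme.Modules.pullback f) _ k).app _ ≪≫
      (HomologicalComplex.single _ _ k).mapIso e)⟩

variable {R : CommRingCat.{u}}

/-- Endomorphisms of `O[-k]` on an affine scheme commute. -/
theorem comm_end_unitS (k : ℤ) (x y : DerivedCategory.Q.obj (unitS (Spec R) k) ⟶ DerivedCategory.Q.obj (unitS (Spec R) k)) :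
    x ≫ y = y ≫ x := by
  let i := (DerivedCategory.singleFunctorIsoCompQ (Spec R).Modules k).app (Coh.structureModule (Spec R))
  let S := DerivedCategory.singleFunctor (Spec R).Modules k
  let t : (tilde.functor R).obj (ModuleCat.of R R) ≅ Coh.structureModule (Spec R) := tildeSelf
  obtain ⟨x', hx⟩ := S.map_surjective (i.hom ≫ x ≫ i.inv)
  obtain ⟨y', hy⟩ := S.map_surjective (i.hom ≫ y ≫ i.inv)
  obtain ⟨x'', hx'⟩ := (tilde.functor R).map_surjective (t.hom ≫ x' ≫ t.inv)
  obtain ⟨y'', hy'⟩ := (tilde.functor R).map_surjective (t.hom ≫ y' ≫ t.inv)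
  have h2 : x'' ≫ y'' = y'' ≫ x'' := by
    refine ModuleCat.hom_ext (LinearMap.ext_ring ?_)
    show y''.hom (x''.hom (1 : R)) = x''.hom (y''.hom (1 : R))
    have hh : ∀ (z : ModuleCat.of R R ⟶ ModuleCat.of R R) (r : R), z.hom r = r * z.hom (1 : R) := fun z r => by
      have := z.hom.map_smul r (1 : R)
      simpa using this
    rw [hh y'' (x''.hom (1 : R)), hh x'' (y''.hom (1 : R))]
    exact mul_comm _ _
  have h3 : x' ≫ y' = y' ≫ x' := by
    have := congrArg (tilde.functor R).map h2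
    rw [Functor.map_comp, Functor.map_comp, hx', hy'] at this
    simpa using this
  have h4 := congrArg S.map h3
  rw [Functor.map_comp, Functor.map_comp, hx, hy] at h4
  simpa using h4

variable (f : X ⟶ Spec R) [DCoh.HasRpush f] [DCoh.HasLpull f]

/-- If `Rf_* O[-k] ≅ O[-k]` then `g ↦ Rf_* g` is bijective on maps out of `O[-k]`. -/
theorem bijective_rpush_map (k : ℤ)
    (h : Nonempty ((DCoh.Rpush f).obj (DerivedCategory.Q.obj (unitS X k)) ≅
      DerivedCategory.Q.obj (unitS (Spec R) k))) (M : DCoh.D X) :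
    Function.Bijective fun g : DerivedCategory.Q.obj (unitS X k) ⟶ M => (DCoh.Rpush f).map g := by
  obtain ⟨adj⟩ := nonempty_lpull_rpush_adj f
  obtain ⟨u⟩ := h
  obtain ⟨c⟩ := nonempty_lpull_unitS f k
  let U := DerivedCategory.Q.obj (unitS (Spec R) k)
  let η := adj.unit.app U ≫ (DCoh.Rpush f).map c.hom
  haveI : IsIso η := by
    obtain ⟨g, hg⟩ : ∃ g, η ≫ (DCoh.Rpush f).map g = u.inv := by
      refine ⟨c.inv ≫ (adj.homEquiv _ _).symm u.inv, ?_⟩
      show (adj.unit.app U ≫ (DCoh.Rpush f).map c.hom) ≫ _ = _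
      rw [Category.assoc, ← Functor.map_comp, c.hom_inv_id_assoc]
      exact (Adjunction.homEquiv_unit adj ..).symm.trans (Equiv.apply_symm_apply _ _)
    have h1 : (η ≫ u.hom) ≫ (u.inv ≫ (DCoh.Rpush f).map g ≫ u.hom) = 𝟙 U := by
      simp only [Category.assoc, Iso.hom_inv_id_assoc]
      rw [reassoc_of% hg, Iso.inv_hom_id]
    haveI : IsIso (η ≫ u.hom) := ⟨_, h1, (comm_end_unitS k _ _).trans h1⟩
    exact IsIso.of_isIso_comp_right η u.hom
  have h2 : ∀ g : DerivedCategory.Q.obj (unitS X k) ⟶ M, adj.homEquiv _ _ (c.hom ≫ g) = η ≫ (DCoh.Rpush f).map g := fun g => by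
    rw [Adjunction.homEquiv_unit, Functor.map_comp, ← Category.assoc]
  refine ⟨fun g g' hg => (cancel_epi c.hom).1 ((adj.homEquiv _ _).injective ?_), fun y => ?_⟩
  · rw [h2, h2]
    exact congrArg (η ≫ ·) hg
  · refine ⟨c.inv ≫ (adj.homEquiv _ _).symm (η ≫ y), (cancel_epi η).1 ((h2 _).symm.trans ?_)⟩
    rw [Iso.hom_inv_id_assoc, Equiv.apply_symm_apply]

end Groth.Agent.ShriekPn7
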