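import Groth.Agent.ShriekPn7.Cones
import Groth.Agent.ShriekPn7.TwistD
import Groth.Agent.ShriekPn7.Unit
import Groth.Agent.ProjGen7.RpushTwist

/-!
# `π^! O = O(-n-1)[n]` for `π : P^n_A ⟶ Spec A`
-/

set_option linter.style.haveILetI false
set_option backward.isDefEq.respectTransparency false
set_option backward.isDefEq.respectTransparency.types false
set_option maxHeartbeats 1000000

universe u

open CategoryTheory CategoryTheory.Limits AlgebraicGeometry Pretriangulated TopologicalSpace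

attribute [local instance] HasDerivedCategory.standard

noncomputable section

namespace Groth.Agent.ShriekPn7

open Groth.Agent.KFlatLib Groth.Agent.PerfGen7 Groth.Agent.ProjGen7 Groth.Agent.ShriekTensor7

variable (n : ℕ) (A : Type u) [CommRing A]

theorem nonempty_twist_zero_iso :
    Nonempty (Coh.structureModule (CohB1.ProjSpace n A) ≅ Twist.twistProjSpace n A 0) :=
  ⟨@asIso _ _ _ _ _ (PnCoh.Finite.isIso_oneHom (coord' n A) (coord'_mem n A) (iSup_coord' n A))⟩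

variable [DCoh.HasRpush (CohB1.ProjSpace.toSpec n A)]

/-- `Rπ_* O(b) = 0` for `-n ≤ b ≤ -1`. -/
theorem isZero_rpush_twist (b : ℤ) (h1 : -(n : ℤ) ≤ b) (h2 : b ≤ -1) :
    IsZero ((DCoh.Rpush (CohB1.ProjSpace.toSpec n A)).obj (DCoh.inD (CohB1.ProjSpace n A) (Twist.twistProjSpace n A b))) := by
  haveI : HasInjectiveResolutions (CohB1.ProjSpace n A).Modules := hasInjectiveResolutions_modules
  haveI : IsProper (CohB1.ProjSpace.toSpec n A) := PnCoh.Chow.isProper_toSpec n A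
  obtain ⟨d, rfl⟩ : ∃ d : ℕ, b = -(d : ℤ) := ⟨(-b).toNat, by omega⟩
  have hM : Coh.IsQCoh (Twist.twistProjSpace n A (-(d : ℤ))) :=
    PnCoh.isQCoh_twist_mvPolynomial (Fin (n + 1)) A _
  obtain ⟨e⟩ := nonempty_rpush_single_iso (CohB1.ProjSpace.toSpec n A) hM fun q =>
    Groth.Agent.S0844.result A n _ (q + 1) (fun h => Nat.succ_ne_zero q h.1) (fun h => by omega)
  refine ((DerivedCategory.singleFunctor _ 0).map_isZero ?_).of_iso e
  refine QCoh.isZero_of_cover (QCoh.isQCoh_pushforward _ hM) (fun _ : Unit => (⊤ : Opens _))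
    (fun _ => isAffineOpen_top _) (fun x => ⟨(), trivial⟩) fun _ => ?_
  exact subsingleton_twist_top n A d (by omega) (by omega)

/-- `Rπ_* O = O`. -/
theorem nonempty_rpush_structure :
    Nonempty ((DCoh.Rpush (CohB1.ProjSpace.toSpec n A)).obj (DCoh.inD (CohB1.ProjSpace n A) (Coh.structureModule (CohB1.ProjSpace n A))) ≅
      DCoh.inD (Spec (CommRingCat.of A)) (Coh.structureModule (Spec (CommRingCat.of A)))) := by
  haveI : HasInjectiveResolutions (CohB1.ProjSpace n A).Modules := hasInjectiveResolutions_modules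
  haveI : IsProper (CohB1.ProjSpace.toSpec n A) := PnCoh.Chow.isProper_toSpec n A
  obtain ⟨i₀⟩ := nonempty_twist_zero_iso n A
  obtain ⟨e⟩ := nonempty_rpush_single_iso (CohB1.ProjSpace.toSpec n A)
    (PnCoh.isQCoh_twist_mvPolynomial (Fin (n + 1)) A 0) fun q =>
      Groth.Agent.S0844.result A n _ (q + 1) (fun h => Nat.succ_ne_zero q h.1) (fun h => by omega)
  obtain ⟨e₀⟩ := nonempty_push_structure (CohB1.ProjSpace.toSpec n A) (PnCoh.bijective_toSpecR_appTop (ι := Fin (n + 1)) (R := A))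
  exact ⟨(DCoh.Rpush (CohB1.ProjSpace.toSpec n A)).mapIso ((DerivedCategory.singleFunctor _ 0).mapIso i₀) ≪≫ e ≪≫
    (DerivedCategory.singleFunctor _ 0).mapIso
      ((Scheme.Modules.pushforward (CohB1.ProjSpace.toSpec n A)).mapIso i₀.symm ≪≫ e₀.symm)⟩

/-- `Rπ_* O(-n-1)[n] = O`. -/
theorem nonempty_rpush_top :
    Nonempty ((DCoh.Rpush (CohB1.ProjSpace.toSpec n A)).obj ((DCoh.inD (CohB1.ProjSpace n A) (Twist.twistProjSpace n A (-((n : ℤ) + 1))))⟦(n : ℤ)⟧) ≅
      DCoh.inD (Spec (CommRingCat.of A)) (Coh.structureModule (Spec (CommRingCat.of A)))) := by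
  classical
  let 𝒜 := CohB1.polyGrading n A
  let V := fun i : Fin (n + 1) => Proj.basicOpen 𝒜 (coord' n A (ULift.up i))
  let m := fun (i : Fin (n + 1)) (b : ℤ) =>
    PnDual.mulHom (coord'_mem n A (ULift.up i)) (d := b) (d' := b + 1) rfl
  let F : KD (CohB1.ProjSpace n A) (Fin (n + 1)) := kdOfModules (fun b => Twist.twist 𝒜 b) m
    fun i j b => mulHom_comm (coord'_mem n A (ULift.up i)) (coord'_mem n A (ULift.up j)) b
  let ll := (Finset.univ : Finset (Fin (n + 1))).toList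
  have hll : ll.length = n + 1 := by simp [ll]
  obtain ⟨t, l, hl⟩ : ∃ t l, ll = t :: l := List.exists_cons_of_length_eq_add_one hll
  have hlen : l.length = n := by rw [hl] at hll; simpa using hll
  let e : ∀ b : ℤ, DCoh.inD (CohB1.ProjSpace n A) (Twist.twistProjSpace n A b) ≅ DerivedCategory.Q.obj (F.obj b) := fun b =>
    (DerivedCategory.singleFunctorIsoCompQ _ 0).app _
  have hcone : IsZero (DerivedCategory.Q.obj ((F.cones (t :: l)).obj (-((n : ℤ) + 1)))) := by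
    refine isZero_of_supp_empty (supp_iff.2 fun y _ p => ?_)
    have hy : y ∈ ⨆ j, PnCoh.Finite.D 𝒜 (coord' n A j) := iSup_coord' n A ▸ Opens.mem_top y
    obtain ⟨j, hj⟩ := Opens.mem_iSup.1 hy
    let i := j.down
    have hi : ∀ b, IsIso ((rho (V i).ι).map (DerivedCategory.Q.map (F.op i b))) := fun b => by
      haveI : IsIso ((Scheme.Modules.restrictFunctor (V i).ι).map (m i b)) :=
        isIso_restrict_mulHom (coord'_mem n A (ULift.up i)) b
      haveI : IsIso ((rCx (V i).ι).map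
          ((HomologicalComplex.single _ (ComplexShape.up ℤ) 0).map (m i b))) :=
        (NatIso.isIso_map_iff (HomologicalComplex.singleMapHomologicalComplex
          (Scheme.Modules.restrictFunctor (V i).ι) (ComplexShape.up ℤ) 0) (m i b)).2
          (Functor.map_isIso (HomologicalComplex.single _ _ 0) _)
      exact (NatIso.isIso_map_iff (rhoQ (V i).ι)
        ((HomologicalComplex.single _ (ComplexShape.up ℤ) 0).map (m i b))).2
          (Functor.map_isIso DerivedCategory.Q _)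
    exact supp_iff.1 ((isZero_rho_iff (V i).ι _).1
      (isZero_cones (V i).ι F i hi _ (hl ▸ Finset.mem_toList.2 (Finset.mem_univ i)) _)) y
      (fun hc => hc ⟨⟨y, hj⟩, rfl⟩) p
  obtain ⟨w⟩ := nonempty_window_iso (DCoh.Rpush (CohB1.ProjSpace.toSpec n A)) F t l (-((n : ℤ) + 1)) hcone fun b hb hb' =>
    (isZero_rpush_twist n A b (by omega) (by omega)).of_iso ((DCoh.Rpush (CohB1.ProjSpace.toSpec n A)).mapIso (e b).symm)
  rw [hlen, show -((n : ℤ) + 1) + 1 + (n : ℤ) = 0 by omega] at w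
  obtain ⟨i₀⟩ := nonempty_twist_zero_iso n A
  obtain ⟨e₀⟩ := nonempty_rpush_structure n A
  exact ⟨((DCoh.Rpush (CohB1.ProjSpace.toSpec n A)).commShiftIso (n : ℤ)).app _ ≪≫
    (shiftFunctor _ (n : ℤ)).mapIso ((DCoh.Rpush (CohB1.ProjSpace.toSpec n A)).mapIso (e _)) ≪≫ w ≪≫
    (DCoh.Rpush (CohB1.ProjSpace.toSpec n A)).mapIso ((e 0).symm ≪≫ (DerivedCategory.singleFunctor _ 0).mapIso i₀.symm) ≪≫ e₀⟩

/-- `O[m]` as a complex in one degree. -/
theorem nonempty_shift_unit (Z : Scheme.{u}) (m : ℤ) :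
    Nonempty ((DCoh.inD Z (Coh.structureModule Z))⟦m⟧ ≅ DerivedCategory.Q.obj (unitS Z (-m))) :=
  ⟨((DerivedCategory.singleFunctors Z.Modules).shiftIso m (-m) 0 (by omega)).app _ ≪≫
    (DerivedCategory.singleFunctorIsoCompQ Z.Modules (-m)).app _⟩

/-- `g ↦ Rπ_* g` is bijective on maps out of `O[m]`. -/
theorem bijective_rpush_map_shift (m : ℤ) (M : DCoh.D (CohB1.ProjSpace n A)) :
    Function.Bijective fun g : (DCoh.inD (CohB1.ProjSpace n A) (Coh.structureModule (CohB1.ProjSpace n A)))⟦m⟧ ⟶ M => (DCoh.Rpush (CohB1.ProjSpace.toSpec n A)).map g := by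
  haveI := hasLpull ((CohB1.ProjSpace.toSpec n A) : (CohB1.ProjSpace n A) ⟶ (Spec (CommRingCat.of A)))
  obtain ⟨e₀⟩ := nonempty_rpush_structure n A
  obtain ⟨s⟩ := nonempty_shift_unit (CohB1.ProjSpace n A) m
  obtain ⟨s'⟩ := nonempty_shift_unit (Spec (CommRingCat.of A)) m
  have hb := bijective_rpush_map (CohB1.ProjSpace.toSpec n A) (-m) ⟨(DCoh.Rpush (CohB1.ProjSpace.toSpec n A)).mapIso s.symm ≪≫
    ((DCoh.Rpush (CohB1.ProjSpace.toSpec n A)).commShiftIso m).app _ ≪≫ (shiftFunctor _ m).mapIso e₀ ≪≫ s'⟩ M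
  refine ⟨fun g g' hg => (cancel_epi s.inv).1 (hb.1 ?_), fun y => ?_⟩
  · show (DCoh.Rpush (CohB1.ProjSpace.toSpec n A)).map (s.inv ≫ g) = (DCoh.Rpush (CohB1.ProjSpace.toSpec n A)).map (s.inv ≫ g')
    rw [Functor.map_comp, Functor.map_comp]
    exact congrArg (_ ≫ ·) hg
  · obtain ⟨g, hg⟩ := hb.2 ((DCoh.Rpush (CohB1.ProjSpace.toSpec n A)).map s.inv ≫ y)
    simp only at hg
    refine ⟨s.hom ≫ g, ?_⟩
    show (DCoh.Rpush (CohB1.ProjSpace.toSpec n A)).map (s.hom ≫ g) = y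
    rw [Functor.map_comp, hg, ← Functor.map_comp_assoc, s.hom_inv_id, CategoryTheory.Functor.map_id,
      Category.id_comp]

/-- No maps from `O(-d)[m]`, `1 ≤ d ≤ n`, to `O(-n-1)[n]`. -/
theorem eq_zero_twist (d : ℕ) (h1 : 1 ≤ d) (h2 : d ≤ n) (m : ℤ)
    (φ : (DCoh.inD (CohB1.ProjSpace n A) (Twist.twistProjSpace n A (-(d : ℤ))))⟦m⟧ ⟶
      (DCoh.inD (CohB1.ProjSpace n A) (Twist.twistProjSpace n A (-((n : ℤ) + 1))))⟦(n : ℤ)⟧) : φ = 0 := by
  obtain ⟨hinv, hmul, -⟩ := PnCoh.Finite.invertible_package (coord' n A) (coord'_mem n A) (iSup_coord' n A)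
  refine eq_zero_of_twist (hinv (d : ℤ)) _ _ m _ (fun ψ => ?_) φ
  obtain ⟨i₀⟩ := nonempty_twist_zero_iso n A
  obtain ⟨a⟩ := hmul (-(d : ℤ)) (d : ℤ)
  obtain ⟨b⟩ := hmul (-((n : ℤ) + 1)) (d : ℤ)
  let S₀ := DerivedCategory.singleFunctor (CohB1.ProjSpace n A).Modules 0
  let eL : (DCoh.inD (CohB1.ProjSpace n A) ((AmpleVan.tw (Twist.twistProjSpace n A (d : ℤ))).obj
      (Twist.twistProjSpace n A (-(d : ℤ)))))⟦m⟧ ≅ (DCoh.inD (CohB1.ProjSpace n A) (Coh.structureModule (CohB1.ProjSpace n A)))⟦m⟧ :=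
    (shiftFunctor _ m).mapIso (S₀.mapIso (a ≪≫ eqToIso (by rw [neg_add_cancel]; rfl) ≪≫ i₀.symm))
  rw [← cancel_epi eL.inv, comp_zero]
  refine (bijective_rpush_map_shift n A m _).1 (IsZero.eq_of_tgt ?_ _ _)
  refine ((shiftFunctor (DCoh.D (Spec (CommRingCat.of A))) (n : ℤ)).map_isZero ?_).of_iso (((DCoh.Rpush (CohB1.ProjSpace.toSpec n A)).commShiftIso _).app _)
  exact (isZero_rpush_twist n A (-((n : ℤ) + 1) + d) (by omega) (by omega)).of_iso
    ((DCoh.Rpush (CohB1.ProjSpace.toSpec n A)).mapIso (S₀.mapIso b))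

end Groth.Agent.ShriekPn7
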